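import Groth.Agent.L10.DRing.AwayQuot
import Groth.Agent.S0389
import Mathlib.RingTheory.Extension.Presentation.Core
import Mathlib.RingTheory.Flat.FaithfullyFlat.Algebra
import Mathlib.RingTheory.Spectrum.Prime.RingHom

/-! Tor vanishing below a bound descends along finitely presented ring maps that are surjective on spectra. -/

set_option autoImplicit false

universe u

open CategoryTheory CategoryTheory.Limits TensorProduct

attribute [local instance] HasDerivedCategory.standard

set_option backward.isDefEq.respectTransparency false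
namespace Groth.L04.FlatDesc

variable {R : Type u} [CommRing R]

/-- exactness in degree `i` of the complex tensored with a module -/
def Van (Q : DRing.Cx R) (i : ℤ) (M : Type u) [AddCommGroup M] [Module R M] : Prop :=
  Function.Exact ((Q.d (i - 1) i).hom.rTensor M) ((Q.d i (i + 1)).hom.rTensor M)

theorem van_iff (Q : DRing.Cx R) (i : ℤ) (M : ModuleCat.{u} R) :
    IsZero ((DRing.tensorCx Q M).homology i) ↔ Van Q i M :=
  Groth.L10.DR.tensor_exact_iff Q M (i - 1) i (i + 1) (by omega) rfl

theorem van_congr {Q : DRing.Cx R} {i : ℤ} {M N : Type u} [AddCommGroup M] [Module R M] [AddCommGroup N]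
    [Module R N] (e : M ≃ₗ[R] N) (h : Van Q i M) : Van Q i N :=
  Function.Exact.of_ladder_linearEquiv_of_exact (e₁ := e.lTensor _) (e₂ := e.lTensor _) (e₃ := e.lTensor _)
    (f₁₂ := (Q.d (i - 1) i).hom.rTensor M) (f₂₃ := (Q.d i (i + 1)).hom.rTensor M)
    (TensorProduct.ext' fun _ _ => rfl) (TensorProduct.ext' fun _ _ => rfl) h

/-- descent of exactness along a faithfully flat cover dominated by the algebra -/
theorem van_of_cover {Q : DRing.Cx R} {i : ℤ} {R' B B' : Type u} [CommRing R'] [CommRing B] [CommRing B']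
    [Algebra R R'] [Algebra R B] [Algebra R B'] [Algebra R' B'] [IsScalarTower R R' B']
    [Module.FaithfullyFlat R' B'] (ι : B →ₐ[R] B')
    (hB : ∀ (N : Type u) [AddCommGroup N] [Module B N] [Module R N] [IsScalarTower R B N], Van Q i N)
    (M : Type u) [AddCommGroup M] [Module R M] [Module R' M] [IsScalarTower R R' M] : Van Q i M := by
  letI : Module B (B' ⊗[R'] M) := Module.compHom _ (ι : B →+* B')
  haveI : IsScalarTower R B (B' ⊗[R'] M) := IsScalarTower.of_algebraMap_smul fun r x => by
    show ι (algebraMap R B r) • x = r • x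
    rw [ι.commutes, IsScalarTower.algebraMap_smul]
  have h : Van Q i (B' ⊗[R'] M) := hB _
  let L : ∀ k l : ℤ, (M ⊗[R] Q.X k) →ₗ[R'] (M ⊗[R] Q.X l) := fun k l =>
    AlgebraTensorModule.lTensor R' M (Q.d k l).hom
  let E : ∀ k, (B' ⊗[R'] (M ⊗[R] Q.X k)) ≃+ (Q.X k ⊗[R] (B' ⊗[R'] M)) := fun k =>
    (AlgebraTensorModule.assoc R R' R' B' M (Q.X k)).symm.toAddEquiv.trans (TensorProduct.comm R _ _).toAddEquiv
  have hsq : ∀ k l t, ((Q.d k l).hom.rTensor (B' ⊗[R'] M)) (E k t) = E l ((L k l).lTensor B' t) := by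
    intro k l t
    induction t using TensorProduct.induction_on with
    | zero => simp
    | add x y hx hy => simp only [map_add, hx, hy]
    | tmul b w =>
      induction w using TensorProduct.induction_on with
      | zero => simp
      | add x y hx hy => simp only [tmul_add, map_add, hx, hy]
      | tmul m q => simp [E, L]
  have h1 : Function.Exact ((L (i - 1) i).lTensor B') ((L i (i + 1)).lTensor B') :=
    (Function.Exact.iff_of_ladder_addEquiv (E (i - 1)) (E i) (E (i + 1))
      (f₁₂ := ((L (i - 1) i).lTensor B').toAddMonoidHom) (f₂₃ := ((L i (i + 1)).lTensor B').toAddMonoidHom)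
      (g₁₂ := ((Q.d (i - 1) i).hom.rTensor _).toAddMonoidHom)
      (g₂₃ := ((Q.d i (i + 1)).hom.rTensor _).toAddMonoidHom)
      (AddMonoidHom.ext (hsq _ _)) (AddMonoidHom.ext (hsq _ _))).1 h
  have h2 : Function.Exact (L (i - 1) i) (L i (i + 1)) := Module.FaithfullyFlat.lTensor_reflects_exact R' B' _ _ h1
  exact Function.Exact.of_ladder_linearEquiv_of_exact (e₁ := TensorProduct.comm R M (Q.X (i - 1)))
    (e₂ := TensorProduct.comm R M (Q.X i)) (e₃ := TensorProduct.comm R M (Q.X (i + 1)))
    (f₁₂ := (L (i - 1) i).restrictScalars R) (f₂₃ := (L i (i + 1)).restrictScalars R)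
    (TensorProduct.ext' fun _ _ => rfl) (TensorProduct.ext' fun _ _ => rfl) h2

theorem nontrivial_tensor_of_field (k K B : Type u) [Field k] [Field K] [CommRing B] [Algebra R B] [Algebra R k]
    [Algebra R K] (φ : k →ₐ[R] K) [Nontrivial (k ⊗[R] B)] : Nontrivial (K ⊗[R] B) := by
  letI : Algebra k K := φ.toRingHom.toAlgebra
  haveI : IsScalarTower R k K := IsScalarTower.of_algebraMap_eq fun x => (φ.commutes x).symm
  exact (AlgebraTensorModule.cancelBaseChange R k k K B).symm.toEquiv.nontrivial

/-- surjectivity on spectra is stable under base change -/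
theorem comap_surjective_baseChange (R' B : Type u) [CommRing R'] [CommRing B] [Algebra R R'] [Algebra R B]
    (h : Function.Surjective (PrimeSpectrum.comap (algebraMap R B))) :
    Function.Surjective (PrimeSpectrum.comap (algebraMap R' (R' ⊗[R] B))) := by
  intro p
  refine (PrimeSpectrum.nontrivial_iff_mem_rangeComap p).1 ?_
  let q : PrimeSpectrum R := PrimeSpectrum.comap (algebraMap R R') p
  haveI := (PrimeSpectrum.nontrivial_iff_mem_rangeComap q).2 (h q)
  let k := q.asIdeal.ResidueField
  let K := p.asIdeal.ResidueField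
  haveI := nontrivial_tensor_of_field k K B (Ideal.ResidueField.mapₐ q.asIdeal p.asIdeal (Algebra.ofId R R') rfl)
  exact (AlgebraTensorModule.cancelBaseChange R R' R' K B).toEquiv.nontrivial

variable {B : Type u} [CommRing B] [Algebra R B]

/-- vanishing against all modules from vanishing against the modules of a finitely presented cover -/
theorem van_of_fp_surjective [Algebra.FinitePresentation R B]
    (hsurj : Function.Surjective (PrimeSpectrum.comap (algebraMap R B))) {Q : DRing.Cx R}
    (hQ : DRing.TermwiseFlat Q) (a : ℤ)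
    (hB : ∀ i < a, ∀ (N : Type u) [AddCommGroup N] [Module B N] [Module R N] [IsScalarTower R B N], Van Q i N)
    (i : ℤ) (hi : i < a) (M : ModuleCat.{u} R) : IsZero ((DRing.tensorCx Q M).homology i) := by
  let P := Algebra.Presentation.ofFinitePresentation R B
  let R₀ := P.Core
  let B₀ := P.ModelOfHasCoeffs P.Core
  let e : R ⊗[R₀] B₀ ≃ₐ[R] B := P.tensorModelOfHasCoeffsEquiv P.Core
  haveI : IsNoetherianRing R₀ := Algebra.FiniteType.isNoetherianRing ℤ R₀
  suffices key : ∀ I : Ideal R₀, ∀ i < a, ∀ M : ModuleCat.{u} R,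
      (∀ x ∈ I, ∀ m : M, algebraMap R₀ R x • m = 0) → IsZero ((DRing.tensorCx Q M).homology i) from
    key ⊥ i hi M fun x hx m => by rw [(Ideal.mem_bot.1 hx), map_zero, zero_smul]
  intro I
  induction I using WellFoundedGT.induction with
  | _ I ih =>
  intro i hi M hM
  by_cases hI : I = ⊤
  · haveI : Subsingleton M := subsingleton_of_forall_eq 0 fun m => by
      simpa using hM 1 (hI ▸ Submodule.mem_top) m
    rw [van_iff]
    exact fun x => ⟨fun _ => ⟨0, Subsingleton.elim _ _⟩, fun _ => Subsingleton.elim _ _⟩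
  by_cases hp : I.IsPrime
  swap
  · obtain ⟨x, hx, y, hy, hxy⟩ : ∃ x, x ∉ I ∧ ∃ y, y ∉ I ∧ x * y ∈ I := by
      rcases Ideal.not_isPrime_iff.1 hp with h | ⟨x, hx, y, hy, h⟩
      exacts [absurd h hI, ⟨x, hx, y, hy, h⟩]
    let N : Submodule R M := Submodule.torsionBy R M (algebraMap R₀ R x)
    obtain ⟨S, hS, e1, e2, e3⟩ := Groth.L10.AwayQuot.ses_of_submodule M N
    have hlt : ∀ z : R₀, z ∉ I → I < I ⊔ Ideal.span {z} := fun z hz =>
      left_lt_sup.2 fun hle => hz (hle (Ideal.mem_span_singleton_self z))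
    have hkill : ∀ (z : R₀) (W : ModuleCat.{u} R), (∀ w ∈ I, ∀ m : W, algebraMap R₀ R w • m = 0) →
        (∀ m : W, algebraMap R₀ R z • m = 0) → ∀ w ∈ I ⊔ Ideal.span {z}, ∀ m : W, algebraMap R₀ R w • m = 0 := by
      intro z W h1 h2 w hw m
      obtain ⟨u, hu, v, hv, rfl⟩ := Submodule.mem_sup.1 hw
      obtain ⟨c, rfl⟩ := Ideal.mem_span_singleton'.1 hv
      rw [map_add, add_smul, h1 u hu, map_mul, mul_smul, h2, smul_zero, add_zero]
    rw [← e2]
    refine Groth.L10.AwayQuot.middle hQ hS i ?_ ?_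
    · rw [e1]
      refine ih _ (hlt x hx) i hi _ (hkill x _ (fun w hw m => Subtype.ext (hM w hw m.1)) fun m => Subtype.ext ?_)
      exact (Submodule.mem_torsionBy_iff _ _).1 m.2
    · rw [e3]
      refine ih _ (hlt y hy) i hi _ (hkill y _ (fun w hw m => ?_) fun m => ?_)
      all_goals obtain ⟨m, rfl⟩ := Submodule.Quotient.mk_surjective _ m
      all_goals refine (Submodule.Quotient.mk_eq_zero _).2 ((Submodule.mem_torsionBy_iff _ _).2 ?_)
      · beta_reduce
        rw [hM w hw, smul_zero]
      · beta_reduce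
        rw [← mul_smul, ← map_mul]
        exact hM _ hxy m
  -- the prime case
  let J : Ideal R := I.map (algebraMap R₀ R)
  let π : R →+* R ⧸ J := Ideal.Quotient.mk J
  refine Groth.L10.NilpotentThick.isZero_tensor_of_killed (φ := π) Ideal.Quotient.mk_surjective i ?_ M ?_
  swap
  · rw [Ideal.mk_ker]
    intro r hr m
    refine Submodule.span_induction (p := fun r _ => r • m = 0) ?_ (zero_smul R m) (fun u v _ _ hu hv => ?_)
      (fun c u _ hu => ?_) hr
    · rintro _ ⟨x, hx, rfl⟩
      exact hM x hx m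
    · rw [add_smul, hu, hv, add_zero]
    · rw [smul_eq_mul, mul_smul, hu, smul_zero]
  letI : Algebra (R₀ ⧸ I) (R ⧸ J) := (Ideal.quotientMap J (algebraMap R₀ R) Ideal.le_comap_map).toAlgebra
  haveI : IsScalarTower R₀ (R₀ ⧸ I) (R ⧸ J) := IsScalarTower.of_algebraMap_eq fun x => rfl
  haveI : IsDomain (R₀ ⧸ I) := Ideal.Quotient.isDomain I
  obtain ⟨f, hf, -, hfree, -, -⟩ :=
    Groth.Agent.S0389.result (R := R₀ ⧸ I) (S := (R₀ ⧸ I) ⊗[R₀] B₀) (M := (R₀ ⧸ I) ⊗[R₀] B₀)
  haveI := hfree
  obtain ⟨g, rfl⟩ := Ideal.Quotient.mk_surjective f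
  have hg : g ∉ I := fun h => hf (Ideal.Quotient.eq_zero_iff_mem.2 h)
  let f' : R ⧸ J := algebraMap (R₀ ⧸ I) (R ⧸ J) (Ideal.Quotient.mk I g)
  intro N
  refine Groth.L10.AwayQuot.vanish (Q := (Groth.L02.PC.bcCx π).obj Q) ?_ (f := f') a ?_ ?_ i hi N
  · intro k
    let := π.toAlgebra
    haveI := hQ k
    exact inferInstanceAs (Module.Flat (R ⧸ J) ((R ⧸ J) ⊗[R] (Q.X k)))
  · intro j hj W hW
    rw [Groth.L10.NilpotentThick.isZero_tensor_bc_iff]
    refine ih (I ⊔ Ideal.span {g}) (left_lt_sup.2 fun hle => hg (hle (Ideal.mem_span_singleton_self g))) j hj _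
      fun w hw m => ?_
    obtain ⟨u, hu, v, hv, rfl⟩ := Submodule.mem_sup.1 hw
    obtain ⟨c, rfl⟩ := Ideal.mem_span_singleton'.1 hv
    show π (algebraMap R₀ R (u + c * g)) • (m : W) = 0
    have h0 : π (algebraMap R₀ R u) = 0 := Ideal.Quotient.eq_zero_iff_mem.2 (Ideal.mem_map_of_mem _ hu)
    rw [map_add, map_add, h0, zero_add, map_mul, map_mul, mul_smul]
    show _ • f' • (m : W) = 0
    rw [hW, smul_zero]
  · intro j hj W
    rw [Groth.L10.NilpotentThick.isZero_tensor_bc_iff, van_iff]
    let R' := Localization.Away f'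
    haveI : IsScalarTower R₀ (R₀ ⧸ I) R' := IsScalarTower.of_algebraMap_eq fun x => by
      rw [IsScalarTower.algebraMap_apply (R₀ ⧸ I) (R ⧸ J) R',
        IsScalarTower.algebraMap_apply R₀ (R ⧸ J) R']
      rfl
    haveI : Module.Free R' (R' ⊗[R₀ ⧸ I] ((R₀ ⧸ I) ⊗[R₀] B₀)) :=
      Groth.L20.GF.free_of_isUnit R' (f := Ideal.Quotient.mk I g)
        (by rw [IsScalarTower.algebraMap_apply (R₀ ⧸ I) (R ⧸ J) R']
            exact IsLocalization.Away.algebraMap_isUnit f') _
    haveI : Module.Flat R' (R' ⊗[R] B) := Module.Flat.of_linearEquiv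
      ((AlgebraTensorModule.congr (LinearEquiv.refl R' R') e.symm.toLinearEquiv).trans
        ((AlgebraTensorModule.cancelBaseChange R₀ R R' R' B₀).trans
          (AlgebraTensorModule.cancelBaseChange R₀ (R₀ ⧸ I) R' R' B₀).symm))
    haveI : Module.FaithfullyFlat R' (R' ⊗[R] B) :=
      Module.FaithfullyFlat.of_comap_surjective (comap_surjective_baseChange R' B hsurj)
    letI : Module R' W := inferInstanceAs (Module (Localization.Away f') W)
    letI : Module R W := Module.compHom W (algebraMap R R')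
    haveI : IsScalarTower R R' W := IsScalarTower.of_algebraMap_smul fun _ _ => rfl
    refine van_congr (M := W) ?_ (van_of_cover (R' := R') (B' := R' ⊗[R] B)
      Algebra.TensorProduct.includeRight (fun N => hB j hj N) W)
    exact
      { AddEquiv.refl W with
        map_smul' := fun r x => by
          show algebraMap R R' r • x = algebraMap (R ⧸ J) R' (π r) • x
          rfl }

end Groth.L04.FlatDesc
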