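import Groth.Agent.L04.FlatDesc.Ring
import Groth.Agent.L29.DCoh.QCohLocal
import Groth.Agent.L29.DCoh.TildeAlg
import Groth.Agent.L10.DRing.KFlatLBC
import Mathlib.RingTheory.Finiteness.FinitePresentationLocal

/-! Flatness in degree zero descends along finitely presented coverings. -/

set_option autoImplicit false
set_option backward.isDefEq.respectTransparency false
set_option backward.isDefEq.respectTransparency.types false

universe u

open CategoryTheory CategoryTheory.Limits AlgebraicGeometry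

attribute [local instance] HasDerivedCategory.standard

namespace Groth.L04.FlatDesc

open Groth.L29.DC TensorProduct

variable {X S : Scheme.{u}}

/-- flat amplitude restricts along open immersions -/
theorem flatAmp_restrictD {U : Scheme.{u}} (j : U ⟶ X) [IsOpenImmersion j] {a b : ℤ} {K : DCoh.D X}
    (h : DCoh.HasFlatAmplitudeIn a b K) : DCoh.HasFlatAmplitudeIn a b ((DCoh.restrictD j).obj K) := by
  obtain ⟨F, hv, hf, ⟨e⟩⟩ := h
  exact ⟨((Scheme.Modules.restrictFunctor j).mapHomologicalComplex (ComplexShape.up ℤ)).obj F,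
    fun i hi => (Scheme.Modules.restrictFunctor j).map_isZero (hv i hi),
    fun i => Groth.L00.KFlat.isFlat_of_iso ((Scheme.Modules.restrictFunctorIsoPullback j).app _).symm
      (Groth.L00.TorAmp.isFlat_pullback j (hf i)),
    ⟨((Scheme.Modules.restrictFunctor j).mapDerivedCategoryFactors.app F).symm ≪≫
      (DCoh.restrictD j).mapIso e⟩⟩

/-- a flat module in degree zero has flat amplitude `[0, 0]` -/
theorem flatAmp_inD {F : X.Modules} (hF : FlatMod.IsFlat F) {M : DCoh.D X} (e : M ≅ DCoh.inD X F) :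
    DCoh.HasFlatAmplitudeIn 0 0 M := by
  refine ⟨(CochainComplex.singleFunctor X.Modules 0).obj F,
    fun i hi => HomologicalComplex.isZero_single_obj_X _ _ _ _ (by omega), fun i => ?_,
    ⟨((DerivedCategory.singleFunctorIsoCompQ X.Modules 0).app F).symm ≪≫ e.symm⟩⟩
  rcases eq_or_ne i 0 with rfl | hi
  · exact Groth.L00.KFlat.isFlat_of_iso (HomologicalComplex.singleObjXSelf (ComplexShape.up ℤ) 0 F).symm hF
  · exact Groth.L00.KFlat.isFlat_zero (HomologicalComplex.isZero_single_obj_X _ _ _ _ hi)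

/-- flat amplitude `[0, 0]` is a flat module in degree zero -/
theorem exists_inD {M : DCoh.D X} (h : DCoh.HasFlatAmplitudeIn 0 0 M) :
    ∃ G : X.Modules, FlatMod.IsFlat G ∧ Nonempty (M ≅ DCoh.inD X G) := by
  obtain ⟨E, hv, hf, ⟨e⟩⟩ := h
  haveI : E.IsStrictlyGE 0 := (CochainComplex.isStrictlyGE_iff E 0).2 fun i hi => hv i (Or.inl hi)
  haveI : E.IsStrictlyLE 0 := (CochainComplex.isStrictlyLE_iff E 0).2 fun i hi => hv i (Or.inr hi)
  obtain ⟨G, ⟨eG⟩⟩ := CochainComplex.exists_iso_single E 0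
  exact ⟨G, Groth.L00.KFlat.isFlat_of_iso (HomologicalComplex.Hom.isoApp eG 0 ≪≫
      HomologicalComplex.singleObjXSelf (ComplexShape.up ℤ) 0 G) (hf 0),
    ⟨e.symm ≪≫ DerivedCategory.Q.mapIso eG ≪≫ ((DerivedCategory.singleFunctorIsoCompQ X.Modules 0).app G).symm⟩⟩

/-- descent of tor amplitude from a finite family of finitely presented jointly surjective algebras -/
theorem amp_of_family {R : Type u} [CommRing R] {ι : Type} [Fintype ι] {B : ι → Type u} [∀ k, CommRing (B k)]
    (φ : ∀ k, R →+* B k) (hfp : ∀ k, (φ k).FinitePresentation)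
    (hsurj : ∀ p : PrimeSpectrum R, ∃ k q, PrimeSpectrum.comap (φ k) q = p)
    [∀ k, DRing.HasLBaseChange (φ k)] (K : Dual.D R) (a b : ℤ) (hb : Groth.L02.PC.LEH K b)
    (h : ∀ k, DRing.HasTorAmplitudeIn (B k) a b ((DRing.LBaseChange (φ k)).obj K)) :
    DRing.HasTorAmplitudeIn R a b K := by
  classical
  obtain ⟨Q, hQb, hQf, -, ⟨e⟩⟩ := Groth.L02.PC.exists_free_rep hb
  have hQ : DRing.TermwiseFlat Q := Groth.L10.DR.flat_of_free hQf
  have hQk : DRing.IsKFlat R Q := Groth.L10.KFlat.of_bounded Q b hQb hQ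
  letI : ∀ k, Algebra R (B k) := fun k => (φ k).toAlgebra
  haveI : ∀ k, Algebra.FinitePresentation R (B k) := fun k => hfp k
  let ψ : ∀ k, (∀ l, B l) →+* B k := fun k => Pi.evalRingHom B k
  let χ : R →+* (∀ l, B l) := algebraMap R (∀ l, B l)
  have hψ : ∀ k, (ψ k).comp χ = φ k := fun k => rfl
  have hprod : ∃ l : List ι, (l.map fun k => RingHom.ker (ψ k)).prod = ⊥ := by
    refine ⟨Finset.univ.toList, eq_bot_iff.2 fun x hx => funext fun k => ?_⟩
    exact Ideal.le_of_dvd (List.dvd_prod (List.mem_map.2 ⟨k, Finset.mem_toList.2 (Finset.mem_univ k), rfl⟩)) hx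
  have hB : ∀ i < a, ∀ (N : Type u) [AddCommGroup N] [Module (∀ l, B l) N] [Module R N]
      [IsScalarTower R (∀ l, B l) N], Van Q i N := by
    intro i hi N _ _ _ _
    have h1 : IsZero ((DRing.tensorCx ((Groth.L02.PC.bcCx χ).obj Q) (ModuleCat.of (∀ l, B l) N)).homology i) := by
      refine Groth.L10.NilpotentThick.isZero_tensor_of_bc ψ (fun k y => ⟨Pi.single k y, Pi.single_eq_same k y⟩)
        hprod (fun j => ?_) i (fun k W => ?_) _
      · let := χ.toAlgebra
        haveI := hQ j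
        exact inferInstanceAs (Module.Flat (∀ l, B l) ((∀ l, B l) ⊗[R] (Q.X j)))
      · rw [Groth.L10.NilpotentThick.isZero_tensor_bc_iff, Groth.L10.NilpotentThick.isZero_tensor_bc_iff, van_iff]
        obtain ⟨E, h1, h2, ⟨e'⟩⟩ := h k
        have hv := (Groth.L10.NilpotentThick.isZero_tensor_bc_iff (φ k) Q W i).1
          (Groth.L10.NilpotentThick.vanish_of_amp (φ k) hQk
            ⟨E, h1, h2, ⟨e' ≪≫ ((DRing.LBaseChange (φ k)).mapIso e).symm⟩⟩ i (Or.inl hi) W)
        rw [van_iff] at hv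
        exact hv
    rw [Groth.L10.NilpotentThick.isZero_tensor_bc_iff, van_iff] at h1
    refine van_congr (N := N) ?_ h1
    exact
      { AddEquiv.refl N with
        map_smul' := fun r x => by
          exact IsScalarTower.algebraMap_smul (∀ l, B l) r (show N from x) }
  refine (Groth.L10.DR.amp_iff e hQb hQ a b).2 ⟨fun i hi W => ?_, hb⟩
  refine van_of_fp_surjective (B := ∀ l, B l) (fun p => ?_) hQ a hB i hi W
  obtain ⟨k, q, rfl⟩ := hsurj p
  exact ⟨PrimeSpectrum.comap (ψ k) q, by rw [← PrimeSpectrum.comap_comp_apply]; rfl⟩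

/-- flatness in degree zero descends along surjective quasi-compact morphisms locally of finite presentation -/
theorem flatAmp_descent (f : X ⟶ S) [Surjective f] [LocallyOfFinitePresentation f] [QuasiCompact f]
    [DCoh.HasLpull f] {M : DCoh.D S} (hM : DCoh.IsQCohD M) {a b : ℤ} (hab : a ≤ b)
    (hpos : ∀ i, b < i → IsZero (DCoh.HD M i))
    (h2 : DCoh.HasFlatAmplitudeIn a b ((DCoh.Lpull f).obj M)) : DCoh.HasFlatAmplitudeIn a b M := by
  refine flatAmp_of_local hab M fun s => ?_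
  obtain ⟨_, ⟨V, hV, rfl⟩, hsV, -⟩ := S.isBasis_affineOpens.exists_subset_of_mem_open
    (Set.mem_univ s) isOpen_univ
  refine ⟨V, hsV, ?_⟩
  let R : CommRingCat.{u} := Γ(S, V)
  let j : Spec R ⟶ S := hV.fromSpec
  haveI := Groth.L18.TildeF.tilde_preservesFiniteLimits (R := R)
  obtain ⟨K, ⟨eK⟩⟩ := (TildeD.isQCohD_iff _).1 (isQCohD_restrictD j hM)
  have hb : Groth.L02.PC.LEH K b := fun i hi => (TildeAlg.isZero_hd_iff K i).1
    ((((Scheme.Modules.restrictFunctor j).map_isZero (hpos i hi)).of_iso (HDResIso j M i)).of_iso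
      ((DerivedCategory.homologyFunctor _ i).mapIso eK))
  -- a finite affine cover of the preimage
  let T : Set X.Opens := {W | IsAffineOpen W ∧ W ≤ f ⁻¹ᵁ V}
  obtain ⟨t, htT, ht, hcov⟩ : ∃ t : Set X.Opens, t ⊆ T ∧ t.Finite ∧
      ((f ⁻¹ᵁ V : X.Opens) : Set X) ⊆ ⋃ W ∈ t, (W : Set X) :=
    ((QuasiCompact.isCompact_preimage (f := f) _ V.isOpen hV.isCompact)).elim_finite_subcover_image
      (fun W _ => W.isOpen) fun x hx => by
        obtain ⟨_, ⟨W, hW, rfl⟩, hxW, hWV⟩ := X.isBasis_affineOpens.exists_subset_of_mem_open hx (f ⁻¹ᵁ V).isOpen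
        exact Set.mem_iUnion₂.2 ⟨W, ⟨hW, hWV⟩, hxW⟩
  haveI := ht.to_subtype
  obtain ⟨n, ⟨σ⟩⟩ := Finite.exists_equiv_fin t
  let W : Fin n → X.Opens := fun k => (σ.symm k).1
  have hW : ∀ k, IsAffineOpen (W k) := fun k => (htT (σ.symm k).2).1
  have hWV : ∀ k, W k ≤ f ⁻¹ᵁ V := fun k => (htT (σ.symm k).2).2
  let φ : ∀ k, R ⟶ Γ(X, W k) := fun k => f.appLE V (W k) (hWV k)
  have hc : ∀ k, Spec.map (φ k) ≫ j = (hW k).fromSpec ≫ f := fun k =>
    IsAffineOpen.SpecMap_appLE_fromSpec f hV (hW k) (hWV k)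
  haveI : ∀ k, DRing.HasLBaseChange (φ k).hom := fun k => LBC.hasLBaseChange (φ k)
  have hamp : DRing.HasTorAmplitudeIn R a b K := by
    refine amp_of_family (fun k => (φ k).hom) (fun k => f.finitePresentation_appLE hV (hW k) (hWV k))
      (fun p => ?_) K a b hb fun k => ?_
    · obtain ⟨x, hx⟩ := f.surjective (j.base p)
      have hxV : x ∈ f ⁻¹ᵁ V := by
        show f.base x ∈ V
        rw [hx]
        exact hV.range_fromSpec.le ⟨p, rfl⟩
      obtain ⟨U, hU, hxU⟩ := Set.mem_iUnion₂.1 (hcov hxV)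
      have hxW : x ∈ W (σ ⟨U, hU⟩) := by simpa [W] using hxU
      obtain ⟨q, rfl⟩ := (hW _).range_fromSpec.ge hxW
      refine ⟨_, q, ?_⟩
      refine (Scheme.Hom.isOpenEmbedding j).injective ?_
      rw [← hx]
      exact congrArg (fun g => g.base q) (hc _)
    · haveI := Groth.L18.TildeF.tilde_preservesFiniteLimits (R := Γ(X, W k))
      let i := (hW k).fromSpec
      haveI := Groth.L00.KFlat.hasLpull i
      haveI := Groth.L00.KFlat.hasLpull j
      haveI := Groth.L00.KFlat.hasLpull (Spec.map (φ k))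
      haveI := Groth.L00.KFlat.hasLpull (i ≫ f)
      haveI := Groth.L00.KFlat.hasLpull (Spec.map (φ k) ≫ j)
      obtain ⟨e₁⟩ := nonempty_Lpull_iso_restrictD i ((DCoh.Lpull f).obj M)
      obtain ⟨e₂⟩ := Groth.L00.DerivedApi.lpull_comp i f
      obtain ⟨e₃⟩ := Groth.L00.DerivedApi.lpull_comp (Spec.map (φ k)) j
      obtain ⟨e₄⟩ := nonempty_Lpull_iso_restrictD j M
      refine TildeAlg.amp_of_tilde (flatAmp_of_iso ?_ (flatAmp_restrictD i h2))
      exact ((LBC.tildeDIso (φ k)).app K ≪≫ (DCoh.Lpull (Spec.map (φ k))).mapIso (eK ≪≫ e₄.symm) ≪≫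
        e₃.app M ≪≫ eqToIso (by congr 2; exact hc k) ≪≫ (e₂.app M).symm ≪≫ e₁).symm
  have h3 := flatAmp_restrictD hV.isoSpec.hom (flatAmp_of_iso eK (TildeAlg.flatAmp_tilde hamp))
  exact flatAmp_of_iso ((resTransD j hV.isoSpec.hom (Scheme.Opens.ι V) hV.isoSpec_hom_fromSpec).app M) h3

end Groth.L04.FlatDesc
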